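import Mathlib.Algebra.Category.Ring.Under.Basic
import Mathlib.RingTheory.FinitePresentation
import Mathlib.CategoryTheory.Filtered.Basic
import Mathlib.Algebra.MvPolynomial.Rename

/-! Every algebra is a filtered colimit of finitely presented algebras. -/

set_option autoImplicit false
universe u

open CategoryTheory CategoryTheory.Limits MvPolynomial

namespace FPColimLib

variable (R A : Type u) [CommRing R] [CommRing A] [Algebra R A]

structure Stage : Type u where
  s : Finset A
  t : Finset (MvPolynomial s R)
  ht : ∀ q ∈ t, aeval (fun a : s => (a : A)) q = 0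

variable {R A}

/-- The variables of a stage inside those of a bigger one. -/
def incl {s s' : Finset A} (h : s ⊆ s') (a : s) : s' := ⟨a.1, h a.2⟩

instance : Preorder (Stage R A) where
  le i j := ∃ h : i.s ⊆ j.s, ∀ q ∈ i.t, rename (incl h) q ∈ Ideal.span (j.t : Set (MvPolynomial j.s R))
  le_refl i := ⟨subset_refl _, fun q hq => by
    rw [show incl (subset_refl i.s) = id from rfl, rename_id, AlgHom.id_apply]
    exact Ideal.subset_span hq⟩
  le_trans := by
    rintro i j l ⟨h, h1⟩ ⟨h', h2⟩
    refine ⟨h.trans h', fun q hq => ?_⟩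
    have h3 := Ideal.mem_map_of_mem (rename (incl h') : MvPolynomial j.s R →ₐ[R] _).toRingHom (h1 q hq)
    rw [Ideal.map_span] at h3
    have h4 : rename (incl (h.trans h')) q = rename (incl h') (rename (incl h) q) := by
      rw [rename_rename]; rfl
    rw [h4]
    refine (Ideal.span_le.2 ?_) h3
    rintro _ ⟨p, hp, rfl⟩
    exact h2 p hp

instance : Nonempty (Stage R A) := ⟨⟨∅, ∅, by simp⟩⟩

open Classical in
instance : IsDirectedOrder (Stage R A) := ⟨fun i j => by
  have hi : i.s ⊆ i.s ∪ j.s := Finset.subset_union_left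
  have hj : j.s ⊆ i.s ∪ j.s := Finset.subset_union_right
  refine ⟨⟨i.s ∪ j.s, i.t.image (rename (incl hi)) ∪ j.t.image (rename (incl hj)), fun q hq => ?_⟩,
    ⟨hi, fun q hq => Ideal.subset_span (by simp only [Finset.coe_union, Finset.coe_image]; exact Or.inl ⟨q, hq, rfl⟩)⟩,
    ⟨hj, fun q hq => Ideal.subset_span (by simp only [Finset.coe_union, Finset.coe_image]; exact Or.inr ⟨q, hq, rfl⟩)⟩⟩
  rcases Finset.mem_union.1 hq with h | h <;> obtain ⟨p, hp, rfl⟩ := Finset.mem_image.1 h <;> rw [aeval_rename]
  exacts [i.ht p hp, j.ht p hp]⟩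

/-- The finitely presented algebra of a stage. -/
abbrev Q (i : Stage R A) : Type u := MvPolynomial i.s R ⧸ Ideal.span (i.t : Set (MvPolynomial i.s R))

noncomputable def toA (i : Stage R A) : Q i →ₐ[R] A :=
  Ideal.Quotient.liftₐ _ (aeval fun a : i.s => (a : A)) fun _ h => by
    exact (Ideal.span_le.2 (fun q hq => i.ht q hq) : _ ≤ RingHom.ker (aeval fun a : i.s => (a : A))) h

noncomputable def tr {i j : Stage R A} (h : i ≤ j) : Q i →ₐ[R] Q j :=
  Ideal.Quotient.liftₐ _ ((Ideal.Quotient.mkₐ R _).comp (rename (incl h.1))) fun _ hq => by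
    exact (Ideal.span_le.2 (fun q hq => Ideal.Quotient.eq_zero_iff_mem.2 (h.2 q hq)) :
      _ ≤ RingHom.ker ((Ideal.Quotient.mkₐ R (Ideal.span (j.t : Set (MvPolynomial j.s R)))).comp (rename (incl h.1)))) hq

theorem tr_mk {i j : Stage R A} (h : i ≤ j) (q : MvPolynomial i.s R) :
    tr h (Ideal.Quotient.mk _ q) = Ideal.Quotient.mk _ (rename (incl h.1) q) := rfl

theorem toA_mk (i : Stage R A) (q : MvPolynomial i.s R) :
    toA i (Ideal.Quotient.mk _ q) = aeval (fun a : i.s => (a : A)) q := rfl

noncomputable def diagram : Stage R A ⥤ Under (CommRingCat.of R) where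
  obj i := CommRingCat.mkUnder (CommRingCat.of R) (Q i)
  map f := (tr (leOfHom f)).toUnder
  map_id i := by
    refine CommRingCat.mkUnder_ext fun a => ?_
    obtain ⟨q, rfl⟩ := Ideal.Quotient.mk_surjective a
    rw [AlgHom.toUnder_right, tr_mk, show incl (leOfHom (𝟙 i)).1 = id from rfl, rename_id]
    rfl
  map_comp {i j l} f g := by
    refine CommRingCat.mkUnder_ext fun a => ?_
    obtain ⟨q, rfl⟩ := Ideal.Quotient.mk_surjective a
    simp only [Under.comp_right, CommRingCat.comp_apply, AlgHom.toUnder_right]
    rw [tr_mk, tr_mk, tr_mk, rename_rename]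
    rfl

noncomputable def cocone : Cocone (diagram (R := R) (A := A)) where
  pt := CommRingCat.mkUnder (CommRingCat.of R) A
  ι :=
    { app := fun i => (toA i).toUnder
      naturality := fun i j f => by
        refine CommRingCat.mkUnder_ext fun a => ?_
        obtain ⟨q, rfl⟩ := Ideal.Quotient.mk_surjective a
        simp only [diagram, Functor.const_obj_map, Category.comp_id, Under.comp_right, CommRingCat.comp_apply]
        erw [AlgHom.toUnder_right, AlgHom.toUnder_right, AlgHom.toUnder_right, tr_mk, toA_mk, toA_mk, aeval_rename]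
        rfl }

open Classical in
noncomputable def single (a : A) : Stage R A := ⟨{a}, ∅, by simp⟩

def gen (a : A) : ({a} : Finset A) := ⟨a, Finset.mem_singleton_self a⟩

noncomputable def ev (c : Cocone (diagram (R := R) (A := A))) : MvPolynomial A R →+* c.pt.right :=
  eval₂Hom c.pt.hom.hom fun a => (c.ι.app (single a)).right
    (Ideal.Quotient.mk _ (X (gen a)) : Q (single (R := R) a))

theorem ev_rename (c : Cocone (diagram (R := R) (A := A))) (i : Stage R A) (q : MvPolynomial i.s R) :
    ev c (rename (fun a : i.s => (a : A)) q) = (c.ι.app i).right (Ideal.Quotient.mk _ q : Q i) := by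
  have : (ev c).comp (rename (fun a : i.s => (a : A))).toRingHom =
      (c.ι.app i).right.hom.comp (Ideal.Quotient.mk (Ideal.span (i.t : Set (MvPolynomial i.s R)))) := by
    refine ringHom_ext (fun r => ?_) fun a => ?_
    · show ev c (rename _ (C r)) = _
      rw [rename_C, ev, eval₂Hom_C]
      exact (congrArg (fun f => f.hom r) (Under.w (c.ι.app i))).symm
    · show ev c (rename _ (X a)) = _
      rw [rename_X, ev, eval₂Hom_X']
      have hle : single (R := R) a.1 ≤ i := ⟨Finset.singleton_subset_iff.2 a.2, fun q hq => absurd hq (Finset.notMem_empty q)⟩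
      rw [← c.w (homOfLE hle)]
      show (c.ι.app i).right (tr hle _) = _
      rw [tr_mk, rename_X]
      rfl
  exact RingHom.congr_fun this q

theorem toA_eq (i : Stage R A) (q : MvPolynomial i.s R) :
    toA i (Ideal.Quotient.mk _ q) = aeval (id : A → A) (rename (fun a : i.s => (a : A)) q) := by
  rw [aeval_rename]; rfl

theorem ker_le (c : Cocone (diagram (R := R) (A := A))) :
    RingHom.ker (aeval (R := R) (id : A → A)).toRingHom ≤ RingHom.ker (ev c) := by
  classical
  intro q hq
  obtain ⟨s, q', rfl⟩ := exists_finset_rename q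
  have h0 : aeval (fun a : s => (a : A)) q' = 0 := by
    have h1 : aeval (id : A → A) (rename Subtype.val q') = 0 := hq
    rwa [aeval_rename] at h1
  let i : Stage R A := ⟨s, {q'}, by simpa using h0⟩
  rw [RingHom.mem_ker]
  refine (ev_rename c i q').trans ?_
  rw [Ideal.Quotient.eq_zero_iff_mem.2 (Ideal.subset_span (by simp [i]))]
  exact map_zero _

theorem surjective_aeval : Function.Surjective (aeval (R := R) (id : A → A) : MvPolynomial A R →ₐ[R] A).toRingHom := fun a => ⟨X a, by simp⟩

noncomputable def desc (c : Cocone (diagram (R := R) (A := A))) : (cocone (R := R) (A := A)).pt ⟶ c.pt :=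
  Under.homMk (CommRingCat.ofHom ((aeval (R := R) (id : A → A)).toRingHom.liftOfSurjective (surjective_aeval (R := R) (A := A)) ⟨ev c, ker_le c⟩)) (by
    ext r
    show RingHom.liftOfSurjective _ (surjective_aeval (R := R) (A := A)) ⟨ev c, ker_le c⟩ (algebraMap R A r) = c.pt.hom r
    rw [← aeval_C (R := R) (σ := A) (id : A → A) r]
    erw [RingHom.liftOfSurjective_comp_apply]
    exact eval₂Hom_C _ _ r)

noncomputable def isColimit : IsColimit (cocone (R := R) (A := A)) where
  desc := desc
  fac c i := by
    refine CommRingCat.mkUnder_ext fun a => ?_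
    obtain ⟨q, rfl⟩ := Ideal.Quotient.mk_surjective a
    show RingHom.liftOfSurjective _ (surjective_aeval (R := R) (A := A)) ⟨ev c, ker_le c⟩ (toA i (Ideal.Quotient.mk _ q)) = _
    rw [toA_eq]
    erw [RingHom.liftOfSurjective_comp_apply]
    exact ev_rename c i q
  uniq c m hm := by
    refine CommRingCat.mkUnder_ext fun a => ?_
    obtain ⟨p, rfl⟩ := surjective_aeval (R := R) a
    show m.right _ = RingHom.liftOfSurjective _ (surjective_aeval (R := R) (A := A)) ⟨ev c, ker_le c⟩ _
    erw [RingHom.liftOfSurjective_comp_apply]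
    obtain ⟨s, q', rfl⟩ := exists_finset_rename p
    let i : Stage R A := ⟨s, ∅, by simp⟩
    refine Eq.trans ?_ (ev_rename c i q').symm
    rw [← hm i]
    show m.right _ = m.right (toA i _)
    rw [toA_eq]
    rfl

end FPColimLib
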