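import Mathlib.RingTheory.Flat.EquationalCriterion
import Mathlib.Algebra.Category.ModuleCat.FilteredColimits
import Mathlib.Algebra.Category.ModuleCat.Colimits
import Mathlib.CategoryTheory.Presentable.Directed
import Mathlib.CategoryTheory.Limits.Final
import Mathlib.CategoryTheory.Limits.ConcreteCategory.WithAlgebraicStructures

/-! Lazard's theorem. -/

set_option autoImplicit false
universe u

open CategoryTheory CategoryTheory.Limits

namespace FPColimLib

variable (R : Type u) [CommRing R] (M : Type u) [AddCommGroup M] [Module R M]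

/-- Maps from finite free modules to `M`. -/
structure FreeOver : Type u where
  n : ℕ
  y : (Fin n →₀ R) →ₗ[R] M

variable {R M}

noncomputable instance : Category.{u} (FreeOver R M) where
  Hom i j := {a : (Fin i.n →₀ R) →ₗ[R] (Fin j.n →₀ R) // j.y ∘ₗ a = i.y}
  id i := ⟨LinearMap.id, rfl⟩
  comp f g := ⟨g.1 ∘ₗ f.1, by rw [← LinearMap.comp_assoc, g.2, f.2]⟩

/-- The forgetful functor. -/
noncomputable def freeDiagram : FreeOver R M ⥤ ModuleCat.{u} R where
  obj i := ModuleCat.of R (Fin i.n →₀ R)
  map f := ModuleCat.ofHom f.1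

variable [Module.Flat R M]

instance : IsFiltered (FreeOver R M) where
  nonempty := ⟨⟨0, 0⟩⟩
  cocone_objs i j := by
    obtain ⟨k, a, y, h⟩ := Module.Flat.exists_factorization_of_finitePresentation
      (P := (Fin i.n →₀ R) × (Fin j.n →₀ R)) (i.y.coprod j.y)
    exact ⟨⟨k, y⟩, ⟨a ∘ₗ LinearMap.inl R _ _, by rw [← LinearMap.comp_assoc, ← h, LinearMap.coprod_inl]⟩,
      ⟨a ∘ₗ LinearMap.inr R _ _, by rw [← LinearMap.comp_assoc, ← h, LinearMap.coprod_inr]⟩, trivial⟩
  cocone_maps i j f g := by
    obtain ⟨k, a, y, h, ha⟩ := Module.Flat.exists_factorization_of_comp_eq_zero_of_free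
      (f := f.1 - g.1) (x := j.y) (by rw [LinearMap.comp_sub, f.2, g.2, sub_self])
    refine ⟨⟨k, y⟩, ⟨a, h.symm⟩, Subtype.ext ?_⟩
    refine LinearMap.ext fun v => sub_eq_zero.1 ?_
    show a (f.1 v) - a (g.1 v) = 0
    rw [← map_sub]
    exact LinearMap.congr_fun ha v

/-- The tautological cocone. -/
noncomputable def freeCocone : Cocone (freeDiagram (R := R) (M := M)) where
  pt := ModuleCat.of R M
  ι :=
    { app := fun i => ModuleCat.ofHom i.y
      naturality := fun i j f => by
        refine ModuleCat.hom_ext (LinearMap.ext fun v => ?_)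
        exact LinearMap.congr_fun f.2 v }

theorem bijective_desc :
    Function.Bijective (colimit.desc (freeDiagram (R := R) (M := M)) freeCocone).hom := by
  constructor
  · rw [injective_iff_map_eq_zero]
    intro z hz
    obtain ⟨i, v, rfl⟩ := Concrete.colimit_exists_rep (freeDiagram (R := R) (M := M)) z
    change Fin i.n →₀ R at v
    have h0 : i.y v = 0 := (ConcreteCategory.congr_hom (colimit.ι_desc freeCocone i) v).symm.trans hz
    obtain ⟨k, a, y, h, ha⟩ := Module.Flat.exists_factorization_of_apply_eq_zero_of_free h0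
    have hw : (freeDiagram (R := R) (M := M)).map (X := i) (Y := ⟨k, y⟩) ⟨a, h.symm⟩ ≫
        colimit.ι freeDiagram ⟨k, y⟩ = colimit.ι freeDiagram i := colimit.w _ _
    rw [← hw]
    show (colimit.ι (freeDiagram (R := R) (M := M)) ⟨k, y⟩).hom (a v) = 0
    rw [ha]
    exact map_zero _
  · intro m
    let i : FreeOver R M := ⟨1, Finsupp.linearCombination R fun _ => m⟩
    refine ⟨(colimit.ι (freeDiagram (R := R) (M := M)) i).hom (Finsupp.single 0 1), ?_⟩
    refine (ConcreteCategory.congr_hom (colimit.ι_desc freeCocone i) (Finsupp.single 0 1)).trans ?_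
    show Finsupp.linearCombination R (fun _ => m) (Finsupp.single (0 : Fin 1) 1) = m
    simp

omit [Module.Flat R M] in
variable (R M) in
theorem lazard [Module.Flat R M] : ∃ (J : Type u) (_ : Preorder J) (_ : IsDirected J (fun a b => a ≤ b))
    (_ : Nonempty J) (F : J ⥤ ModuleCat.{u} R),
    (∀ j, Module.Finite R (F.obj j) ∧ Module.Free R (F.obj j)) ∧ Nonempty (colimit F ≅ ModuleCat.of R M) := by
  obtain ⟨α, _, hd, hne, F, hF⟩ := IsFiltered.exists_directed (FreeOver R M)
  refine ⟨α, inferInstance, hd, hne, F ⋙ freeDiagram,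
    fun j => ⟨(inferInstance : Module.Finite R (Fin (F.obj j).n →₀ R)),
      (inferInstance : Module.Free R (Fin (F.obj j).n →₀ R))⟩, ⟨?_⟩⟩
  exact Functor.Final.colimitIso F freeDiagram ≪≫
    (LinearEquiv.ofBijective _ (bijective_desc (R := R) (M := M))).toModuleIso

omit [Module.Flat R M] in
theorem flat_of_colimit {J : Type u} [SmallCategory J] [IsFiltered J] (F : J ⥤ ModuleCat.{u} R)
    (hF : ∀ j, Module.Finite R (F.obj j) ∧ Module.Free R (F.obj j)) : Module.Flat R (colimit F : ModuleCat.{u} R) := by
  classical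
  refine Module.Flat.of_forall_exists_factorization fun {l f x} hx => ?_
  choose j v hv using fun i : Fin l => Concrete.colimit_exists_rep F (x (Finsupp.single i 1))
  obtain ⟨s, hs⟩ := IsFiltered.sup_objs_exists (Finset.univ.image j)
  let e : ∀ i, j i ⟶ s := fun i => (hs (Finset.mem_image_of_mem j (Finset.mem_univ i))).some
  let x' : (Fin l →₀ R) →ₗ[R] F.obj s := Finsupp.linearCombination R fun i => (F.map (e i)).hom (v i)
  have hx' : x = (colimit.ι F s).hom ∘ₗ x' := Finsupp.lhom_ext fun i r => by
    rw [show Finsupp.single i r = r • Finsupp.single i 1 by simp, map_smul, map_smul]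
    congr 1
    rw [LinearMap.comp_apply, Finsupp.linearCombination_single, one_smul, ← hv i]
    exact (ConcreteCategory.congr_hom (colimit.w F (e i)) (v i)).symm
  obtain ⟨t, g, hg⟩ := Concrete.colimit_rep_eq_zero R F s (x' f) (by
    rw [hx'] at hx; exact hx)
  have := (hF t).1
  have := (hF t).2
  let b := ((Module.Free.chooseBasis R (F.obj t)).reindex (Fintype.equivFin _)).repr
  refine ⟨_, b.toLinearMap ∘ₗ (F.map g).hom ∘ₗ x', (colimit.ι F t).hom ∘ₗ b.symm.toLinearMap, ?_, ?_⟩
  · rw [hx']
    refine LinearMap.ext fun z => ?_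
    simp only [LinearMap.comp_apply, LinearEquiv.coe_coe, LinearEquiv.symm_apply_apply]
    exact (ConcreteCategory.congr_hom (colimit.w F g) (x' z)).symm
  · show b ((F.map g).hom (x' f)) = 0
    rw [show (F.map g).hom (x' f) = 0 from hg]
    exact map_zero _

end FPColimLib
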